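import Cfsg.Agent.Lib.W4.E27_b

/-!
# The tests for the models with 15 and 27 points (helper27, S1763)
-/

set_option autoImplicit false

namespace Cfsg.Lib.W4.E27

open QuadraticMap Subgroup Cfsg.Lib.Orth Cfsg.Lib.Calc Cfsg.Lib.RD Cfsg.Lib.U6 Cfsg.Lib.ES

/-- implication -/
noncomputable def im (a b : Bool) : Bool := Bool.rec true b a
theorem im_iff {a b : Bool} : im a b = true ↔ (a = true → b = true) := by cases a <;> simp [im]
theorem nt_iff {a : Bool} : not a = true ↔ ¬ a = true := by cases a <;> simp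
/-- all vectors -/
noncomputable def allV (f : ℕ → Bool) : Bool := allLt (nat_lit 256) f
/-- some vector -/
noncomputable def anyV (f : ℕ → Bool) : Bool := anyLt (nat_lit 256) f
theorem allV_iff {f : ℕ → Bool} : allV f = true ↔ ∀ v, f (cd v) = true :=
  ⟨all_v, fun h => allLt_iff.2 fun i l => cd_dc l ▸ h (dc i)⟩
theorem anyV_iff {f : ℕ → Bool} : anyV f = true ↔ ∃ v, f (cd v) = true :=
  anyLt_iff.trans ⟨fun ⟨i, l, h⟩ => ⟨dc i, (cd_dc l).symm ▸ h⟩, fun ⟨v, h⟩ => ⟨_, cd_lt v, h⟩⟩
theorem cd_iff {u v : V8} : cd u = cd v ↔ u = v := ⟨cd_inj, congrArg _⟩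
theorem cm_iff {g h : O q0} : cm g = cm h ↔ g = h := ⟨cm_inj, congrArg _⟩
theorem qb_iff {v : V8} : qb false (cd v) = true ↔ q0 v = 1 := q_one.symm
theorem pb_iff {u v : V8} : pb (cd u) (cd v) = true ↔ polar q0 u v = 1 := pol_one.symm
theorem z2_n1 {a : ZMod 2} : ¬ a = 1 ↔ a = 0 := by revert a; decide

/-- Tables: the involutions `T`, their fixed spaces `P`, the pairs `NC` that do not commute, the third involutions `TH`, and the
involutions `O` outside `X`. -/
structure Ex where
  /-- involutions -/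
  T : ℕ
  /-- their number -/
  n : ℕ
  /-- fixed spaces -/
  P : ℕ
  /-- partners -/
  NC : ℕ
  /-- third involution -/
  TH : ℕ
  /-- outer involutions -/
  O : ℕ
  /-- their number -/
  m : ℕ

namespace Ex

variable (E : Ex) (M : Mod)

/-- involution `i` -/
def t (i : ℕ) : ℕ := get (nat_lit 64) E.T i
/-- `v` is fixed by involution `i` -/
def p (i v : ℕ) : Bool := bit (get (nat_lit 256) E.P i) v
/-- `i`, `j` are partners -/
def nc (i j : ℕ) : Bool := bit E.NC (Nat.add (Nat.mul (nat_lit 16) i) j)
/-- the third one -/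
def th (i j : ℕ) : ℕ := get (nat_lit 4) E.TH (Nat.add (Nat.mul (nat_lit 16) i) j)
/-- outer involution `i` -/
def o (i : ℕ) : ℕ := get (nat_lit 64) E.O i
/-- `s` is a point and `v ∈ B s` -/
noncomputable def bb (s v : ℕ) : Bool := band (M.p s) (M.b s v)

/-- the tables are right -/
noncomputable def c1 : Bool := allLt E.n fun i => band (iso false (E.t i)) (band (M.inX (E.t i)) (band (Nat.beq (mu (E.t i) (E.t i)) ID)
  (band (allV fun v => E.p i v == Nat.beq (ap (E.t i) v) v) (allLt E.n fun j =>
    band (E.nc i j == not (Nat.beq (mu (E.t i) (E.t j)) (mu (E.t j) (E.t i))))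
      (im (E.nc i j) (band (blt (E.th i j) E.n) (Nat.beq (E.t (E.th i j)) (mu (mu (E.t i) (E.t j)) (E.t i)))))))))
/-- invariance -/
noncomputable def c2 : Bool := M.allN fun g => forceB (pack (nat_lit 64) (fun j => mu (E.t j) g) E.n) fun R => allLt E.n fun i =>
  forceB (mu g (E.t i)) fun x => anyLt E.n fun j => Nat.beq x (get (nat_lit 64) R j)
/-- stabilisers -/
noncomputable def c3 : Bool := M.allN fun g => allV fun s => im (M.p s) (im (Nat.beq (ap g s) s) (allLt E.n fun i => im (E.p i s)
  (im (allV fun p => im (E.p i p) (im (bb M s p) (Nat.beq (ap g p) p))) (bor (Nat.beq g ID) (Nat.beq g (E.t i))))))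
/-- one involution -/
noncomputable def c4 : Bool := allLt E.n fun i =>
  band (allV fun v => im (E.p i v) (not (qb false v))) <|
  band (allV fun v => im (allV fun p => im (E.p i p) (not (pb p v))) (E.p i v)) <|
  band (allV fun w => im (E.p i w) (anyV fun v => Nat.beq w (Nat.xor v (ap (E.t i) v)))) <|
  band (anyV fun s => band (M.p s) (E.p i s)) <|
  band (allV fun s => im (M.p s) (im (E.p i s) (
    band (bb M s s) <|
    band (allV fun p => im (E.p i p) (im (not (bb M s p)) (allV fun r => im (E.p i r) (im (not (bb M s r)) (bb M s (Nat.xor p r)))))) <|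
    band (anyV fun p => band (E.p i p) (band (not (bb M s p)) (not (M.p p))))
      (anyV fun p => band (E.p i p) (band (not (bb M s p)) (M.p p)))))) <|
  band (allV fun p => im (E.p i p) (bor (Nat.beq p (nat_lit 0)) (bor (M.p p)
    (anyV fun s => band (M.p s) (band (E.p i s) (M.p (Nat.xor s p))))))) <|
  allV fun p => im (E.p i p) (im (allV fun s => im (M.p s) (im (E.p i s) (bb M s p))) (Nat.beq p (nat_lit 0)))
/-- two involutions -/
noncomputable def c5 : Bool := allLt E.n fun i =>
  band (anyLt E.n (E.nc i)) <|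
  band (allLt E.n fun j => im (E.nc i j) <|
    band (Nat.beq (E.th j i) (E.th i j)) <|
    band (allLt E.n fun k => im (E.nc i k) (bor (Nat.beq k j) (Nat.beq k (E.th i j)))) <|
    band (allV fun p => im (E.p i p) (im (E.p j p) (Nat.beq p (nat_lit 0)))) <|
    allV fun s => im (M.p s) (im (E.p i s) (anyV fun m => band (M.p m) (band (bb M s m) (E.p j m))))) <|
  band (allV fun a => im (M.p a) (im (E.p i a) (allV fun b => im (M.p b) (im (M.p (Nat.xor a b)) (im (not (E.p i b))
    (band (anyLt E.n fun j => band (E.nc i j) (band (E.p j b) (E.p (E.th i j) (Nat.xor a b))))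
      (allLt E.n fun j => im (E.p j b) (im (not (E.p j a)) (E.nc i j))))))))) <|
  allV fun s => im (M.p s) (bor (E.p i s) (anyLt E.n fun j => band (E.nc i j) (E.p j s)))
/-- fusion, `N` -/
noncomputable def c6 : Bool := M.allN fun g => forceB (mu g g) fun x => band (im (Nat.beq (mu x x) ID) (M.inX x))
  (im (Nat.beq x ID) (bor (M.inX g) (anyLt E.m fun i => Nat.beq g (E.o i))))
/-- fusion, outer involutions -/
noncomputable def c7 : Bool := allLt E.m fun i => forceB (E.o i) fun a =>
  band (allLt E.m fun j => forceB (E.o j) fun b => forceB (mu a b) fun x => im (Nat.beq x (mu b a)) (M.inX x))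
    (bor (anyV fun v => M.p (Nat.xor v (ap a v))) (anyV fun p => band (qb false p) (band (Nat.beq (ap a p) p)
      (anyV fun r => band (qb false r) (band (qb false (Nat.xor p r)) (Nat.beq (ap a r) r))))))
/-- fusion, `X` -/
noncomputable def c8 : Bool := M.allX fun g => im (Nat.beq (mu g g) ID)
  (band (bor (Nat.beq g ID) (anyV fun s => band (M.p s) (M.inA s g)))
    (allV fun s => im (M.p s) (im (Nat.beq (ap g s) s) (anyV fun r => band (M.p r) (band (M.b s r) (M.inA r g))))))
/-- fusion, `A` -/
noncomputable def c9 : Bool := band (allLt (nat_lit 8) fun k => forceB (M.a (nat_lit 1) k) fun a => bor (Nat.beq a ID)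
    (allV fun w => im (Nat.beq (ap a w) w) (anyV fun v => Nat.beq w (Nat.xor v (ap a v)))))
  (allV fun s => im (M.p s) (allLt (nat_lit 8) fun k => forceB (M.a s k) fun a => bor (Nat.beq a ID)
    (anyV fun w => band (M.b s w) (not (Nat.beq (ap a w) w)))))

end Ex

variable {G : Type*} [Group G] [Finite G] {z : G} {Q : Subgroup G} {D : CD z Q q0} {M : Mod} {E : Ex}

theorem card_of_perp {P : Submodule (ZMod 2) V8} (h : perp q0 P = P) : Nat.card P = 16 := by
  have := finrank_add_finrank_perp (nd8 false) P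
  rw [h, Module.finrank_fin_fun] at this
  rw [Module.natCard_eq_pow_finrank (K := ZMod 2), Nat.card_zmod, show Module.finrank (ZMod 2) P = 4 by omega]
  rfl

theorem tf_of (c : Cf M D) (h1 : E.c1 M = true) (h2 : E.c2 M = true) (h3 : E.c3 M = true) (h4 : E.c4 M = true) (h5 : E.c5 M = true) :
    Tf D {t | ∃ i < E.n, cm t = E.t i} := by
  have eB : ∀ {s v}, Ex.bb M (cd s) (cd v) = true ↔ Bm D s v := fun {s v} => by
    rw [Ex.bb, band_eq_true, ← c.eS, Bm]
    exact and_congr_right fun h => (c.eB s h v).symm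
  simp only [Ex.c1, allLt_iff, band_eq_true, allV_iff, beq_iff_eq, beq_iff, im_iff, blt_iff] at h1
  have ex : ∀ {j}, j < E.n → ∃ t : O q0, cm t = E.t j := fun l => ex_iso (h1 _ l).1
  have eP : ∀ {i} {t : O q0}, i < E.n → cm t = E.t i → ∀ {v}, (E.p i (cd v) = true ↔ t.1 v = v) := fun l e v => by
    rw [(h1 _ l).2.2.2.1, beq_iff, ← e, ← cd_ap, cd_iff]
  have eN : ∀ {i j} {t t' : O q0}, i < E.n → cm t = E.t i → j < E.n → cm t' = E.t j → (E.nc i j = true ↔ ¬ Commute t t') :=
    fun l e l' e' => by rw [((h1 _ l).2.2.2.2 _ l').1, nt_iff, beq_iff, ← e, ← e', ← cm_mul, ← cm_mul, cm_iff, commute_iff_eq]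
  have eH : ∀ {i j} {t t' : O q0}, i < E.n → cm t = E.t i → j < E.n → cm t' = E.t j → E.nc i j = true →
      E.th i j < E.n ∧ cm (t * t' * t) = E.t (E.th i j) := fun l e l' e' n =>
    (((h1 _ l).2.2.2.2 _ l').2 n).imp_right fun a => by rw [a, cm_mul, cm_mul, e, e']
  have z0 : ∀ {v}, cd v = nat_lit 0 ↔ v = 0 := cd_eq_zero
  have k4 := fun {i} {t : O q0} (l : i < E.n) (e : cm t = E.t i) => by
    have := of_allLt h4 l
    simp only [band_eq_true, bor_eq_true, allV_iff, anyV_iff, im_iff, nt_iff, beq_iff, ← cd_add, eB, ← c.eS, eP l e, qb_iff, pb_iff,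
      z2_n1, ← e, ← cd_ap, cd_iff, z0] at this
    exact this
  have k5 := fun {i} {t : O q0} (l : i < E.n) (e : cm t = E.t i) => by
    have := of_allLt h5 l
    simp only [band_eq_true, bor_eq_true, allV_iff, anyV_iff, im_iff, nt_iff, beq_iff, ← cd_add, eB, ← c.eS, eP l e, allLt_iff,
      anyLt_iff, z0] at this
    exact this
  have pe : ∀ {i} {t : O q0}, i < E.n → cm t = E.t i → perp q0 (fx t) = fx t := fun {i t} l e => Submodule.ext fun v =>
    ⟨fun h => (k4 l e).2.1 v (mem_perp.1 h), fun h => TS.le_perp (fun w a => (k4 l e).1 w a) h⟩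
  refine ⟨?_, ?_, ?_, ?_, ?_, ?_, ?_, ?_, ?_, ?_, ?_, ?_, ?_, ?_, ?_, ?_, ?_, ?_, ?_, ?_, ?_, ?_, ?_⟩ <;> rintro t ⟨i, l, e⟩
  · exact c.le ((c.eX t).2 (e ▸ (h1 i l).2.1))
  · exact cm_eq_one.1 (by rw [cm_mul, e, (h1 i l).2.2.1])
  · intro g hg
    have := c.allN h2 hg
    simp only [forceB_eq, allLt_iff, anyLt_iff, beq_iff] at this
    obtain ⟨j, lj, a⟩ := this i l
    obtain ⟨r, er⟩ := ex lj
    rw [get_pack (w := nat_lit 64) (fun _ _ => mu_lt _ _) lj, ← e, ← er, ← cm_mul, ← cm_mul, cm_iff] at a
    exact ⟨j, lj, by rw [a, mul_inv_cancel_right, er]⟩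
  · exact card_of_perp (pe l e)
  · exact (k4 l e).1
  · exact (k4 l e).2.1
  · exact (k4 l e).2.2.1
  · intro s hs f g hg k
    have := c.allN h3 hg
    simp only [allV_iff, im_iff, beq_iff, allLt_iff, bor_eq_true, ← cd_ap, cd_iff, eB, ← c.eS, cm_eq_one] at this
    have := this s hs (k s f ((k4 l e).2.2.2.2.1 s hs f).1) i l ((eP l e).2 f) fun p a => k p ((eP l e).1 a)
    rwa [← e, cm_iff] at this
  · exact (k4 l e).2.2.2.1
  · exact fun s hs f p r a b n m => ((k4 l e).2.2.2.2.1 s hs f).2.1 p a n r b m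
  · exact fun s hs f => ((k4 l e).2.2.2.2.1 s hs f).2.2.1
  · exact fun s hs f => ((k4 l e).2.2.2.2.1 s hs f).2.2.2
  · exact (k4 l e).2.2.2.2.2.1
  · exact (k4 l e).2.2.2.2.2.2
  · obtain ⟨j, lj, n⟩ := (k5 l e).1
    obtain ⟨r, er⟩ := ex lj
    exact ⟨r, ⟨j, lj, er⟩, (eN l e lj er).1 n⟩
  · rintro r ⟨j, lj, er⟩ n
    have n' := (eN l e lj er).2 n
    exact cm_inj (by rw [(eH l e lj er n').2, (eH lj er l e ((eN lj er l e).2 fun k => n k.symm)).2, ((k5 l e).2.1 j lj n').1])
  · rintro r ⟨j, lj, er⟩ r' ⟨k, lk, ek⟩ n m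
    have n' := (eN l e lj er).2 n
    exact (((k5 l e).2.1 j lj n').2.1 k lk ((eN l e lk ek).2 m)).imp (fun a => cm_inj (by rw [ek, er, a])) fun a =>
      cm_inj (by rw [ek, (eH l e lj er n').2, a])
  · rintro r ⟨j, lj, er⟩ n p a b
    exact ((k5 l e).2.1 j lj ((eN l e lj er).2 n)).2.2.1 p a ((eP lj er).2 b)
  · rintro r ⟨j, lj, er⟩ n v
    have b : fx t ⊓ fx r = ⊥ := eq_bot_iff.2 fun p a =>
      ((k5 l e).2.1 j lj ((eN l e lj er).2 n)).2.2.1 p a.1 ((eP lj er).2 a.2)
    have := perp_inf (nd8 false) (fx t) (fx r)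
    rw [b, perp_bot, pe l e, pe lj er] at this
    obtain ⟨p, a, p', a', rfl⟩ := Submodule.mem_sup.1 (this.le (Submodule.mem_top (x := v)))
    exact ⟨p, a, by rwa [vadd_cancel]⟩
  · rintro r ⟨j, lj, er⟩ n s hs f
    obtain ⟨m, a, b, d⟩ := ((k5 l e).2.1 j lj ((eN l e lj er).2 n)).2.2.2 s hs f
    exact ⟨m, a, b, (eP lj er).1 d⟩
  · intro a ha b hb hab f n
    obtain ⟨j, lj, n', d, d'⟩ := ((k5 l e).2.2.1 a ha f b hb hab n).1
    obtain ⟨r, er⟩ := ex lj
    exact ⟨r, ⟨j, lj, er⟩, (eN l e lj er).1 n', (eP lj er).1 d, (eP (eH l e lj er n').1 (eH l e lj er n').2).1 d'⟩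
  · rintro r ⟨j, lj, er⟩ a ha b hb hab f n d d'
    exact (eN l e lj er).1 (((k5 l e).2.2.1 a ha f b hb hab n).2 j lj ((eP lj er).2 d) (mt (eP lj er).1 d'))
  · intro s hs
    refine ((k5 l e).2.2.2 s hs).imp_right fun ⟨j, lj, n, d⟩ => ?_
    obtain ⟨r, er⟩ := ex lj
    exact ⟨r, ⟨j, lj, er⟩, (eN l e lj er).1 n, (eP lj er).1 d⟩

theorem fu_of [IsSimpleGroup G] (h : Hy D) (c : Cf M D) (e0 : M.S0 = M.S) (h6 : E.c6 M = true) (h7 : E.c7 M = true)
    (h8 : Ex.c8 M = true) (h9 : Ex.c9 M = true) : Fu D (XX (SV D) (AV D)) := by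
  have k6 := fun {g} (hg : g ∈ D.Γ) => by
    have := c.allN h6 hg
    simp only [forceB_eq, band_eq_true, im_iff, beq_iff, ← cm_mul, cm_eq_one, ← c.eX, bor_eq_true, anyLt_iff] at this
    exact this
  have k7 := fun {i} {a : O q0} (l : i < E.m) (e : cm a = E.o i) => by
    have := of_allLt h7 l
    simp only [forceB_eq, band_eq_true, im_iff, beq_iff, ← e, bor_eq_true, allLt_iff, anyV_iff, ← cd_ap, ← cd_add, ← c.eS, cd_iff,
      qb_iff] at this
    exact this
  have uu : ∀ {u}, IsConj z u → u * u = 1 := fun a => by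
    obtain ⟨g, rfl⟩ := isConj_iff.1 a
    exact (D.cj g).zz
  have k8 := fun {u} (a : IsConj z u) (b : Commute z u) (hg : D.ρ u ∈ XX (SV D) (AV D)) => by
    have := c.allX h8 hg
    simp only [band_eq_true, im_iff, beq_iff, ← cm_mul, cm_eq_one, bor_eq_true, allV_iff, anyV_iff, ← cd_ap, cd_iff, ← c.eS] at this
    exact this (D.ρ_sq b (uu a ▸ one_mem _))
  simp only [Ex.c9, forceB_eq, band_eq_true, bor_eq_true, allLt_iff, allV_iff, anyV_iff, im_iff, nt_iff, beq_iff, ← c.eS] at h9
  refine ⟨fun s a s' b => ?_, fun g a => (k6 a).1, fun a ha b hb a2 b2 ab => ?_, fun _ _ _ a => a, fun u a b m => ?_,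
    fun u a b m s hs f => ?_, fun s hs a m n w f => ?_, fun s hs a m n => ?_, fun a ha a2 n => ?_⟩
  · obtain ⟨t, m, rfl, -⟩ := c.tr e0 a
    obtain ⟨r, m', rfl, -⟩ := c.tr e0 b
    exact ⟨r * t⁻¹, c.le (mul_mem m' (inv_mem m)), by rw [O.mul_apply, O.inv_apply_apply]⟩
  · refine ((k6 ha).2 a2).imp_right fun ⟨i, l, e⟩ => ((k6 hb).2 b2).imp_right fun ⟨j, l', e'⟩ => ?_
    have := (k7 l e).1 j l'
    rw [← e', ← cm_mul, ← cm_mul, ab, ← c.eX] at this
    exact ab ▸ this rfl
  · exact (k8 a b m).1.imp_right fun ⟨s, hs, d⟩ => ⟨s, hs, (c.eA s hs _).2 d⟩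
  · obtain ⟨r, hr, d, d'⟩ := (k8 a b m).2 s hs f
    exact ⟨r, hr, (c.eB s hs r).2 d, (c.eA r hr _).2 d'⟩
  · obtain ⟨t, mt, rfl, -⟩ := c.tr e0 hs
    have := h.sys.cA _ hs _ (c.le (inv_mem mt)) a m
    rw [O.inv_apply_apply, c.eA _ c.one, cd1, M.inA_iff] at this
    obtain ⟨k, l, e⟩ := this
    have := h9.1 k l
    rw [show M.a (nat_lit 1) k = M.a 1 k from rfl, ← e, cm_eq_one] at this
    simp only [← cd_ap, ← cd_add, cd_iff] at this
    obtain ⟨v, b⟩ := this.resolve_left (fun b => n (conj_eq_one_iff.1 b)) ((t⁻¹).1 w) (by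
      rw [inv_inv, O.mul_apply, O.mul_apply, O.apply_inv_apply, f])
    refine ⟨t.1 v, ?_⟩
    rwa [O.inv_apply_eq, map_add, inv_inv, O.mul_apply, O.mul_apply, O.apply_inv_apply] at b
  · obtain ⟨k, l, e⟩ := M.inA_iff.1 ((c.eA s hs a).1 m)
    have := h9.2 s hs k l
    rw [← e, cm_eq_one] at this
    simp only [← cd_ap, cd_iff, ← c.eB s hs] at this
    exact this.resolve_left n
  · obtain ⟨i, l, e⟩ := ((k6 ha).2 a2).resolve_left n
    exact (k7 l e).2.imp_right fun ⟨p, a1, a2, r, a3, a4, a5⟩ => ⟨p, r, a2, a5, a1, a3, a4⟩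

theorem fin_of [IsSimpleGroup G] (h : Hy D) (c : Cf M D) (e0 : M.S0 = M.S) (n0 : 0 < E.n) (h1 : E.c1 M = true) (h2 : E.c2 M = true)
    (h3 : E.c3 M = true) (h4 : E.c4 M = true) (h5 : E.c5 M = true) (h6 : E.c6 M = true) (h7 : E.c7 M = true)
    (h8 : Ex.c8 M = true) (h9 : Ex.c9 M = true) : Lst G :=
  let ⟨_, e⟩ := ex_iso (band_eq_true.1 (of_allLt h1 n0)).1
  main (tf_of c h1 h2 h3 h4 h5) (fu_of h c e0 h6 h7 h8 h9) ⟨0, n0, e⟩

/-- the tables for the model with 15 points -/
def X15 : Ex where
  T := nat_lit 0x826020980a24024580412410180482010221048812208044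
  n := nat_lit 3
  P := nat_lit 0x50000000500000000500000005000000005000000050000000050000000500000000000000000000000000330033000000000000000000000000003300330200000820000080100000400100000408000002800000204000001004000001
  NC := nat_lit 0x300050006
  TH := nat_lit 0x100000000000000020000000000000120
  O := nat_lit 0x662104ec73208544028910200688804402a9148812a88044022104a816208044eecd1164ebcc9544ceed1588deec9144023b948812aa80ce021f9022868a80ee82f48aa6a01a027b7b99cc611fddee455fbdec98d7f9ce45e36020f90f24664582dc8824a298024582f8a8980abc0245826020bc2a2402450186241099044580010620108904448080eb1a8426908295807e8a84a290029545262098cd24448202a504aa9620806682f0aa980a3e025f8242203e282402e380cb3e1018948291805aaa100894029180e72494be048285806220942a04028544a00488542001029555cc05f111ee019554dd05f4117b019151ec101915ce019150f91009155f01854124157c04e301854020156904660180559804a410820180548804a01002018051bc10181482018050a81008140201804124143c0482018040201428040201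
  m := nat_lit 40

/-- the tables for the model with 27 points -/
def X27 : Ex where
  T := nat_lit 0x9040601008050a0184402011480422018240201808240241806020900a04020580482210088402118041241018048201102040800201080404080201408020100201040810208040
  n := nat_lit 9
  P := nat_lit 0x3030303000000000303030300000000000000000000000000000000000000330000003300000033000000330000000000000000000000000000000000000505000005050000050500000505000000000000000000000055000000550000000000000000000000550000005500000000000000000000000005050505000000000000000000000000050505050000000000000000000000000033003300000000000000000000000000330033842100000000000000000000842100000000842100000000000000000000842180004000200010000080004000200010080004000200010000080004000200018000008008000008400000400400000420000020020000021000001001000001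
  NC := nat_lit 0x2400120009010400820041012000900048
  TH := nat_lit 0x20050000000000000100400000000000000003000000020000080000000000100000700000000000000006000000050080000000000000400700000000000003006000
  O := nat_lit 0xff406059416a6548a6402059412224489059ff10119a95188059a61011828418ff40416a486559609a40410a08651860826a0aa6229a02ff229a826a0aa602ff0aa6229a826a02ff119aff1018955990110a6a1008954890846505a6ff049524806505829a04902405a62495ff046584052220956a0460840182241018044180010220100804408084400122480411208040010208041020652220ff6a2460a648821822025908a680ff95829a8490a690406010010a05088040201001020408590a6a1808ff489a60820265240a209a80ffa6909582849a02959022840a806aa66020ff6522246a9a48590a08ff186a6a0111600548954002011020040880406a189a4808ff0a592218824808a6025941909a010518651040800201040820106a2420ffa66022650a24209a8260026580ff9a84a6908295806a0a842290029541841124a60159044080102002010804410220180824408210a6598084181182049a9024658005826084046a95200522592040a624484122804811020884102248909508106a110a65081860409a410a806020900502040aff40486560596a4182400824201802411895ff1090599a11088422108048021124958465ff04a605209080600a040205408004081020010210204080040801020408102040800102954159056511ff019540480560116a0180411804241082018040080420100201651195415905ff016010904008050a01590565119541ff014804201184402201241184415904a60120108040080402011805651090419a010804201080400201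
  m := nat_lit 72

end Cfsg.Lib.W4.E27
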