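import Cfsg.Agent.Lib.W4.Data
import Cfsg.Agent.Lib.W4.E27_c

/-!
# The tests for the model with 30 points (helper27, S1763)
-/

set_option autoImplicit false

namespace Cfsg.Lib.W4.E30

open QuadraticMap Subgroup Cfsg.Lib.Orth Cfsg.Lib.Calc Cfsg.Lib.RD Cfsg.Lib.U6 Cfsg.Lib.ES E27

/-- the symplectic polarity -/
def sg : ℕ := nat_lit 0x1020408001020408
/-- the orthogonal polarity -/
def ga : ℕ := nat_lit 0x10204080010a0508
/-- an element of order five that commutes with `sg` -/
noncomputable def g5 : ℕ := mu (M30.t 5) (M30.k 377)
/-- conjugating elements -/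
def HT : ℕ := nat_lit 0x1ac5017755026552181419e140431400d1432440285511775103f510265100a514031027d10154100cd100b51026545241450a745083450154500a451cb151c9150a71508a15087150831504f1504b150381502615022150211553e04527044d6044ce044a60448704462043fb043f7043d8043d6043a80439b0436c043570435004319042f1042e9042d0042cb042a00428c042690426704257042560424f0424e0424a04247042460424404243042420423a042370421904218042130421204211041fb041bc041b9041a0041980418c04167041610415c0413d0412a04117040fb040eb040e6040e3040e0040c9040c8040c5040c3040c2040c0040bd040aa044a641422413ec413d9413ca413c8413ae413ac4138d4136e413534134a413384131e412e5412df412ce412c6412b5412b2412ac412384119e4114a410a7410a5410834107c4106f4105b4105341036410154100a41007410014151a1150a114f9114ce114c1114be114801147d11467114581141e11419114161140c113f7113f2113e2113c01137c11366112f0112ef112eb112e81129c112981128f1128d1128c112801127511272112691126111252112501124a11244112391121f1121711210111ec111de111d5111d1111d0111ce111cd111cb111ca111bd111b5111ad111a5111a111199111931118a111831117b1117311167111651111d1111b111131110a110a7110a5110a11109f1109e1109d1109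6110921108b1108a11089110871108611084110831107c110701106f1106e1106c110671106311053110501104f1104e1104d1104b11049110481103f1103c11039110381103611032110311102b110261102311022110211101e1101c1101b11015110121100a110071100211001110001153c0552c05526054db054d9054d7054d2054ca054b4054ad0548605483054520542e0542b054290541d054180540e05409053fa053f8053e1053d5053ca053bf053ad0539a0539405385053840536b053600535605355053540534b053460533a053150530b052f3052f0052ed052e8052e2052d4052b3052a50529b05293052900528f0528d05276052650525905258052550524d05249052410523c0522e052210521c0520805203051fa051f2051df051dc051cf051c8051c3051bf051be051af051ae051a7051a60519f0519e0519b0519a051900518005171051700516b0516a0515f05150051210511a0511105108050f4050e7050e2050db050d4050d3050bf050af050a7050a505092050830507c0506f0506c0505305049050480503f0503c050390503805036050310502b050260502305022050210501e0501c050150500a050070500105000050a7010a501092010830107c0106f0106c0105301049010480103f0103c010390103801036010310102b010260102301022010210101e0101c010150100a010070100101000010a7010a501092010830107c0106f0106c0105301049010480103f0103c010390103801036010310102b010260102301022010210101e0101c010150100a01007010010100001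
/-- conjugating element `j` -/
noncomputable def hj (j : ℕ) : ℕ := mu (M30.t (get (nat_lit 8) (get (nat_lit 20) HT j) (nat_lit 0)))
  (M30.k (Nat.shiftRight (get (nat_lit 20) HT j) (nat_lit 8)))
/-- the involutions outside `X` -/
noncomputable def OT : ℕ := pack (nat_lit 64) (fun j => forceN (hj j) fun h =>
  mu (pw h (nat_lit 3)) (mu (cnd (blt j (nat_lit 28)) sg ga) h)) (nat_lit 448)
/-- `a` fixes `v` -/
noncomputable def fi (a v : ℕ) : Bool := Nat.beq (ap a v) v
/-- `a v + v` -/
noncomputable def mv (a v : ℕ) : ℕ := Nat.xor (ap a v) v

theorem tN : (forceB OT fun o => M30.allN fun a => band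
    (im (fi a 9) (im (fi a 144) (im (fi a 96) (bor (bor (Nat.beq a ID) (Nat.beq a sg))
      (band (not (fi a 6)) (bor (Nat.beq a ga) (Nat.beq a (mu sg ga))))))))
    (im (Nat.beq (mu a a) ID) (band (bor (M30.b 1 (ap a 1)) (anyLt (nat_lit 448) fun j => band (Nat.beq a (get (nat_lit 64) o j))
        (band (bit M30.S0 (get (nat_lit 8) (get (nat_lit 20) HT j) (nat_lit 0)))
          (band (blt (Nat.shiftRight (get (nat_lit 20) HT j) (nat_lit 8)) M30.nX)
            (bor (Nat.beq (mu (hj j) a) (mu sg (hj j))) (Nat.beq (mu (hj j) a) (mu ga (hj j))))))))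
      (im (allV fun v => not (qb false (mv a v))) (bor (Nat.beq a ID) (bor
        (anyV fun p => band (fi a p) (band (qb false p) (anyV fun r => band (fi a r) (band (qb false r) (qb false (Nat.xor p r))))))
        (anyV fun v => band (not (Nat.beq (mv a v) (nat_lit 0))) (anyV fun w => band (not (Nat.beq (mv a w) (nat_lit 0)))
          (band (not (Nat.beq (mv a (Nat.xor v w)) (nat_lit 0))) (not (pb v (mv a w)))))))))))) = true := by decide +kernel
theorem tB : (allV fun s => im (M30.p s) (band
    (allV fun v => band (im (M30.b 1 s) (M30.b s v == M30.b 1 v)) (im (not (M30.b 1 s)) (im (M30.p v) (M30.b s v == not (M30.b 1 v)))))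
    (bor (M30.b 1 s) (M30.inX (mu (M30.ti s) sg))))) = true := by decide +kernel
theorem tF : (allV fun w => im (fi sg w) (band (band (not (qb false w)) (anyV fun v => Nat.beq w (Nat.xor v (ap sg v))))
    (forceB (mu g5 g5) fun g => allV fun p => im (not (Nat.beq p (nat_lit 0))) (im (fi sg p) (anyLt 5 fun i =>
      bor (Nat.beq w (ap (pw g i) p)) (anyLt 5 fun j => Nat.beq w (Nat.xor (ap (pw g i) p) (ap (pw g j) p)))))))) = true := by
  decide +kernel
theorem tS : iso false sg = true ∧ iso false ga = true ∧ mu g5 sg = mu sg g5 ∧ mu sg sg = ID ∧ M30.b 1 (ap sg 1) = false ∧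
    qb false (mv ga 2) = true ∧ bit M30.S0 5 = true ∧ M30.b 1 1 = true ∧ M30.b 1 2 = false ∧ fi sg 9 = true ∧ fi sg 144 = true ∧
    fi sg 96 = true ∧ fi sg 6 = true := by decide +kernel
theorem tV : ∀ a, a = sg ∨ a = ga → mv a 1 = 9 ∧ mv a 16 = 144 ∧ mv a 64 = 96 := by
  rintro _ (rfl | rfl) <;> decide +kernel

theorem fi_iff {a : O q0} {v : V8} : fi (cm a) (cd v) = true ↔ a.1 v = v := by rw [fi, beq_iff, ← cd_ap, cd_iff]
theorem mv_eq (a : O q0) (v : V8) : mv (cm a) (cd v) = cd (a.1 v + v) := by rw [mv, cd_add, cd_ap]

end Cfsg.Lib.W4.E30
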