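import Cfsg.Agent.Lib.HN3.A12
import Cfsg.Agent.Lib.IA.MA

/-!
# Facts about `A₈` and `A₉` (helper14, S1763)
-/

set_option autoImplicit false
set_option maxRecDepth 100000

namespace Cfsg.Lib.W4.E75

open Cfsg.Lib.Calc Cfsg.Lib.Grp Cfsg.Lib.T2 Cfsg.Lib.T3 Cfsg.Lib.IA Cfsg.Lib.HN3

variable {G : Type*} [Group G] {γ : ℕ → G}

theorem f8a (g : Gf ma γ 0 []) : ∀ y ∈ genW γ (ma.ws 0), y * γ 5 = γ 5 * y → y ^ 3 = 1 → y ≠ 1 → ∃ u ∈ genW γ (ma.ws 0), u * y = y * u ∧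
    u ^ 3 = 1 ∧ u ≠ 1 ∧ γ 5 * u * (γ 5)⁻¹ = u⁻¹ ∧ ∀ v ∈ genW γ (ma.ws 0), v * y = y * v → v ^ 3 = 1 → γ 5 * v * (γ 5)⁻¹ = v⁻¹ →
      v = 1 ∨ v = u ∨ v = u⁻¹ :=
  g.tr (φ := .all 0 40 [(.l 5, .l 5)] (.imp (.one (.pow (.l 40) 3)) (.imp (.not (.one (.l 40))) (.ex 0 41 [(.l 40, .l 40)]
    (.and (.one (.pow (.l 41) 3)) (.and (.not (.one (.l 41))) (.and (.eq (cj (.l 5) (.l 41)) (.inv (.l 41))) (.all 0 42 [(.l 40, .l 40)]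
      (.imp (.one (.pow (.l 42) 3)) (.imp (.eq (cj (.l 5) (.l 42)) (.inv (.l 42))) (.or (.one (.l 42)) (.or (.eq (.l 42) (.l 41))
        (.eq (.l 42) (.inv (.l 41))))))))))))))) (by decide +kernel)

theorem f8b (g : Gf ma γ 0 []) : ∀ y ∈ genW γ (ma.ws 0), y * (γ 1 * γ 3) = γ 1 * γ 3 * y → y ^ 3 = 1 → ∀ r ∈ genW γ (ma.ws 0),
    r * (γ 1 * γ 3) = γ 1 * γ 3 * r → r * r = γ 1 * γ 3 → r * (y * r * y⁻¹) * (r * (y * r * y⁻¹)) ≠ γ 1 * γ 3 :=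
  g.tr (φ := .all 0 40 [(.mul (.l 1) (.l 3), .mul (.l 1) (.l 3))] (.imp (.one (.pow (.l 40) 3)) (.all 0 41
    [(.mul (.l 1) (.l 3), .mul (.l 1) (.l 3))] (.imp (.eq (.mul (.l 41) (.l 41)) (.mul (.l 1) (.l 3))) (.lt 42
      (.mul (.l 41) (cj (.l 40) (.l 41))) (.not (.eq (.mul (.l 42) (.l 42)) (.mul (.l 1) (.l 3))))))))) (by decide +kernel)

theorem f9a (g : Gf a12 γ 2 []) : ∀ y ∈ genW γ (a12.ws 14), y ^ 3 = 1 → y = 1 ∨ (∃ k ∈ genW γ (a12.ws 2), k * γ 10 = y * k ∧ True) ∨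
    (∃ k ∈ genW γ (a12.ws 2), k * (γ 10 * γ 11) = y * k ∧ True) ∨ ∃ k ∈ genW γ (a12.ws 2), k * (γ 2 * γ 10 * γ 11) = y * k ∧ True :=
  g.tr (φ := .all 14 40 [] (.imp (.one (.pow (.l 40) 3)) (.or (.one (.l 40)) (.or (.ex 2 41 [(.l 10, .l 40)] .tt)
    (.or (.ex 2 41 [(.mul (.l 10) (.l 11), .l 40)] .tt) (.ex 2 41 [(.mul (.mul (.l 2) (.l 10)) (.l 11), .l 40)] .tt))))))
    (by decide +kernel)

theorem f9b (g : Gf a12 γ 2 []) : ∀ z ∈ genW γ (a12.ws 2), z * γ 10 = γ 10 * z → z * z = 1 → z ≠ 1 → ∀ r ∈ genW γ (a12.ws 2),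
    r * z = z * r → r * r = z → r * (γ 10 * r * (γ 10)⁻¹) * (r * (γ 10 * r * (γ 10)⁻¹)) ≠ z :=
  g.tr (φ := .all 2 40 [(.l 10, .l 10)] (.imp (.one (.mul (.l 40) (.l 40))) (.imp (.not (.one (.l 40))) (.all 2 41 [(.l 40, .l 40)]
    (.imp (.eq (.mul (.l 41) (.l 41)) (.l 40)) (.lt 42 (.mul (.l 41) (cj (.l 10) (.l 41))) (.not (.eq (.mul (.l 42) (.l 42)) (.l 40)))))))))
    (by decide +kernel)

theorem f9c (g : Gf a12 γ 2 []) : ∀ z ∈ genW γ (a12.ws 2), z * (γ 2 * γ 10 * γ 11) = γ 2 * γ 10 * γ 11 * z → z * z = 1 → z = 1 :=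
  g.tr (φ := .all 2 40 [(.mul (.mul (.l 2) (.l 10)) (.l 11), .mul (.mul (.l 2) (.l 10)) (.l 11))] (.imp (.one (.mul (.l 40) (.l 40)))
    (.one (.l 40)))) (by decide +kernel)

theorem f9d (g : Gf a12 γ 1 []) : ∀ z ∈ genW γ (a12.ws 2), z * (γ 10 * γ 11) = γ 10 * γ 11 * z → z * z = 1 → z ≠ 1 →
    z * γ 2 * z⁻¹ = (γ 2)⁻¹ ∧ ∀ n ∈ genW γ (a12.ws 1), n * γ 1 = (γ 1)⁻¹ * n → n * (γ 10 * γ 11) = γ 10 * γ 11 * n → n * n = 1 →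
      ∀ v ∈ genW γ (a12.ws 2), v * (γ 10 * γ 11) = γ 10 * γ 11 * v → v * n = n * v → v ^ 3 = 1 → z * v * z⁻¹ = v⁻¹ →
        v = 1 ∨ v = γ 2 ∨ v = (γ 2)⁻¹ ∨ v = γ 10 * (γ 11)⁻¹ ∨ v = (γ 10 * (γ 11)⁻¹)⁻¹ :=
  g.tr (φ := .all 2 40 [(.mul (.l 10) (.l 11), .mul (.l 10) (.l 11))] (.imp (.one (.mul (.l 40) (.l 40))) (.imp (.not (.one (.l 40)))
    (.and (.eq (cj (.l 40) (.l 2)) (.inv (.l 2))) (.all 1 41 [(.l 1, .inv (.l 1)), (.mul (.l 10) (.l 11), .mul (.l 10) (.l 11))]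
      (.imp (.one (.mul (.l 41) (.l 41))) (.all 2 42 [(.mul (.l 10) (.l 11), .mul (.l 10) (.l 11)), (.l 41, .l 41)]
        (.imp (.one (.pow (.l 42) 3)) (.imp (.eq (cj (.l 40) (.l 42)) (.inv (.l 42))) (.or (.one (.l 42)) (.or (.eq (.l 42) (.l 2))
          (.or (.eq (.l 42) (.inv (.l 2))) (.or (.eq (.l 42) (.mul (.l 10) (.inv (.l 11))))
            (.eq (.l 42) (.inv (.mul (.l 10) (.inv (.l 11)))))))))))))))))) (by decide +kernel)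

theorem f9e (g : Gf a12 γ 1 []) : (∃ e ∈ genW γ (a12.ws 2), e * γ 2 = (γ 2)⁻¹ * e ∧ e * γ 10 = (γ 10)⁻¹ * e ∧ e * γ 11 = γ 11 * e ∧ True) ∧
    (∃ e ∈ genW γ (a12.ws 2), e * γ 2 = γ 2 * e ∧ e * γ 11 = γ 10 * e ∧ True) ∧
    (∃ e ∈ genW γ (a12.ws 2), e * γ 10 = γ 2 * e ∧ e * γ 2 = γ 10 * e ∧ True) ∧
    ∃ e ∈ genW γ (a12.ws 2), e * γ 2 = γ 11 * e ∧ e * γ 10 = γ 10 * e ∧ True :=
  g.tr (φ := .and (.ex 2 40 [(.l 2, .inv (.l 2)), (.l 10, .inv (.l 10)), (.l 11, .l 11)] .tt) (.and (.ex 2 40 [(.l 2, .l 2), (.l 11, .l 10)] .tt)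
    (.and (.ex 2 40 [(.l 10, .l 2), (.l 2, .l 10)] .tt) (.ex 2 40 [(.l 2, .l 11), (.l 10, .l 10)] .tt)))) (by decide +kernel)

end Cfsg.Lib.W4.E75
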