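import Cfsg.Agent.Lib.W4.O3b

/-! Port of `Lib.O83.E`, `F` (helper24): centralisers and calculus of root elements (helper18, S1763). -/

set_option autoImplicit false

namespace Cfsg.Lib.O84

open Subgroup Cfsg.Lib.BG Cfsg.Lib.Transfer Cfsg.Lib.ES DihedralGroup
open Cfsg.Lib.O83 hiding Cd0 Cd WB Good tr_P Tor
open scoped Cfsg.Lib.Transfer

variable {G : Type*} [Group G] {M : Subgroup G} {a a' b g p q s s' t u v v' w w' x x' y y' z z' κ : G} {c : Z4} {i j k l : Fin 4}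
  {d e : ZMod 3} {X X' : Fin 3 → G}

variable [Finite G]

namespace Cd

variable (h : Cd z) (r : Rt z x)
include h r

theorem oo_z (c : Commute x g) : z * g * z⁻¹ * g⁻¹ ∈ OO x := by
  obtain ⟨k, d, n, f⟩ := h.rt r
  refine ⟨_, ZStar.zstar (z := (⟨z, cmc.1 r.cm.symm⟩ : 𝐂[x])) ⟨(orderOf_coe _).symm.trans h.q.ord, fun s e => Subtype.ext ?_⟩
    ⟨g, cmc.1 c⟩, rfl⟩
  have e : Commute z (s * z * s⁻¹ : G) := congrArg Subtype.val e
  have c : Commute x (s * z * s⁻¹ : G) := cmc.2 (mul_mem (mul_mem s.2 (cmc.1 r.cm.symm)) (inv_mem s.2))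
  have c' := isc (s : G) z
  change (s * z * s⁻¹ : G) = z
  generalize (s * z * s⁻¹ : G) = v at e c c'
  have mX := h.inn c' e
  obtain ⟨j, p⟩ := X_V mX
  have k1 := congrFun (congrArg SemidirectProduct.left (h.ρ_cm r.cm e c)) k
  rw [f, ml, ml, p] at k1
  have k2 : ∀ g : D3, ∀ d e, d ≠ 0 → .r d * g = g * .r e → e ≠ 0 ∧ ((∃ c, g = sr c) → e ≠ d) := by decide
  have k3 := k2 _ _ _ (by simpa using n) k1
  obtain rfl : j = 0 := vv_fix j k (by_contra fun o => k3.1 (Pi.single_eq_of_ne (fun t : (vv j)⁻¹ k = k => o (by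
    nth_rewrite 1 [← t]; exact pai _ _)) _))
  obtain ⟨c', t | t⟩ := X_base mX p
  swap
  · exact absurd rfl (k3.2 ⟨_, by rw [t]; rfl⟩)
  have := h.ρ_sq e (h.cc ‹_› ▸ one_mem _)
  have m := h.ker e (by rw [t] at this ⊢; rw [rot_sq this, rot_zero])
  by_contra o
  obtain ⟨s, t, -⟩ := h.orb ‹_› m o
  exact om_ne _ (congrFun t k ▸ h.cm_rt r n f m c)

theorem oo_c (m : g ∈ OO x) (c : Commute z g) : g ∈ zpowers x := by
  obtain ⟨k, d, n, f⟩ := h.rt r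
  have i : ∀ {q}, q ∈ OO x → q ∈ Qz z → q = 1 := fun a b => odd_two (OO_odd x) a (n := 2) (h.q.four b)
  have key : ∀ j ≠ k, ac (h.ρ g) (Pi.single j (om 1)) = Pi.single j (om 1) := fun j o => by
    obtain ⟨q, a, b⟩ := h.q.sur (Pi.single j (om 1))
    have := h.rt_cm r f a (by rw [b, Pi.single_eq_of_ne' o])
    exact b ▸ h.fix c a (cm_of (mul_inv_eq_one.1 (i (mq (mul_mem m (nm (OO_n this) (inv_mem m))) (by group))
      (mul_mem (h.nQ c a) (inv_mem a)))))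
  have k1 : ∀ j ≠ k, (h.ρ g).right j = j ∧ a2 ((h.ρ g).left ((h.ρ g).right j)) (om 1) = om 1 := fun j o =>
    let ⟨a, b⟩ := sg_inj (om_ne _) ((key j o).symm.trans (ac_sg _ _ _)); ⟨a.symm, b.symm⟩
  have k2 : (h.ρ g).right = 1 := Equiv.ext fun j => if o : j = k then by_contra fun p =>
    p ((h.ρ g).right.injective (k1 _ (o ▸ p)).1) else (k1 j o).1
  obtain ⟨s, t⟩ := odd_rot k2 (OO_odd x) (h.ρ_p c (congrArg Subtype.val (pow_card_eq_one' (x := (⟨g, m⟩ : OO x))) :))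
  have k3 : s = Pi.single k (s k) := funext fun j => if o : j = k then by rw [o, Pi.single_eq_same] else by
    have := (k1 j o).2
    rw [(k1 j o).1, t] at this
    rw [Pi.single_eq_of_ne o, (a2_fix _ _ this).resolve_right (om_ne _)]
  obtain ⟨e, k4⟩ := (by decide : ∀ d s : ZMod 3, d ≠ 0 → ∃ e : Fin 3, s = e.1 • d) d (s k) n
  have := i (mul_mem m (inv_mem (OO_zp r.x3 (pow_mem (mem_zpowers x) e)))) (h.ρ_eq c (r.cm.pow_right e) (by
    rw [h.ρ_pow r.cm, f, t, k3, k4]; fin_cases e <;> simp [rot_zero, pow_two, two_mul, Pi.single_add, rot_add]))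
  exact mul_inv_eq_one.1 this ▸ pow_mem (mem_zpowers x) e

theorem oo_i (m : g ∈ OO x) : z * g * z⁻¹ * g ∈ zpowers x := by
  have m' := mul_mem (inv_mem m) (nm (OO_n r.cm.symm) m)
  have i : Iv z (g⁻¹ * (z * g * z⁻¹)) := by rw [Iv, ← conj_mul, cjj, h.q.zz]; group
  obtain ⟨s, p, e⟩ := odd_sq (OO_odd x) m'
  have o := zpowers_le.2 m' p
  have := h.oo_c r (mul_mem m o) (cm_of (by rw [← conj_mul, i.zp p, ← mul_inv_cancel_left g (z * g * z⁻¹), ← e]; group))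
  refine mq (mul_mem this this) ?_
  rw [← mul_inv_cancel_left g (z * g * z⁻¹), ← e, mul_assoc g (s * s), mul_assoc s s, ← mul_assoc g s, mul_right_inj,
    ← mul_inv_cancel_right (s * g) s, mul_assoc s g, (zp_cm (OO_cm o).symm this).eq, mul_inv_cancel_right]

theorem oo_comm (m : g ∈ OO x) (o : p ∈ OO x) : g * p * g⁻¹ * p⁻¹ ∈ zpowers x := by
  have b := h.oo_i r (inv_mem o)
  exact (mul_mem_cancel_left (mul_mem (h.oo_i r (inv_mem m)) (mq b (cj_eq (zp_cm (OO_cm m).symm b)).symm))).1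
    (mq (h.oo_i r (mul_mem (inv_mem m) (inv_mem o))) (by group))

omit r [Finite G] in
theorem rl (c' : Commute z a) (aa : a * a = 1) (f : h.ρ a = srot c) (k : Fin 4) : ∃ a₁ b₁ a₂ b₂ κ, Rl z a₁ b₁ a₂ b₂ a κ ∧
    ∀ g ∈ [a₁, b₁, a₂, b₂, κ], g ∈ Qz z ∧ h.π g k = 0 := by
  obtain ⟨i, j, l, n1, n2, n3, n4, n5, n6⟩ := (by decide : ∀ k : Fin 4, ∃ i j l, k ≠ i ∧ k ≠ j ∧ k ≠ l ∧ i ≠ j ∧ i ≠ l ∧ j ≠ l) k
  choose κ m e using fun i => h.q.sur (Pi.single i (om (c i)))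
  choose s o t using fun i => h.q.sur (Pi.single i (om (c i + 1)))
  have k1 := fun i => h.kinv c' aa f (m i) (e i)
  have k2 : ∀ i j, Commute (κ i) (κ j) := fun i j => if p : i = j then p ▸ rfl else (h.q.comm (m i) (m j)).2 (by rw [e, e, bf_sg' p])
  have k3 : ∀ {i j}, i ≠ j → Commute (s i) (κ j) := fun p => (h.q.comm (o _) (m _)).2 (by rw [e, t, bf_sg' p])
  have k4 : ∀ i, s i * κ i * (s i)⁻¹ = κ i * z := fun i => h.q.anti (o i) (m i) (by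
    rw [e, t, bf_sg, Pi.single_eq_same, b2_om, if_neg (by simp)])
  have k5 : ∀ i, κ i * κ i = z := fun i => h.q.sq1 (m i) (by rw [e, qf_sg, q2_om])
  have k6 : ∀ i j, κ i * κ j * (κ i * κ j) = 1 := fun i j => by rw [(k2 j i).mul_mul_mul_comm, k5, k5, h.q.zz]
  have k7 : ∀ i j, Commute a (κ i * κ j) := fun i j => cm_of (by
    rw [← conj_mul, k1, k1, (h.q.cz (m j)).mul_mul_mul_comm, h.q.zz, mul_one])
  have cz := fun i => h.q.cz (m i)
  refine ⟨κ i * κ j, s i, κ j * κ l, s l, κ i, ⟨k6 _ _, k6 _ _, aa, ?_, ?_, ?_,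
    ((k2 _ _).mul_left (k2 _ _)).mul_right ((k2 _ _).mul_left (k2 _ _)), (k3 n5.symm).mul_right (k3 n6.symm), k7 _ _, k7 _ _,
    (k2 _ _).mul_right (k2 _ _), (k2 _ _).mul_right (k2 _ _)⟩, ?_⟩
  · rw [← conj_mul, k4, cj_eq (k3 n4), (cz j).symm.right_comm]
  · rw [← conj_mul, k4, cj_eq (k3 n6.symm), mul_assoc]
  · rw [mul_inv_eq_iff_eq_mul, mul_assoc, (cz i).eq, ← mul_inv_cancel_right (a * (κ i * z)) a, inv2 aa, mul_left_inj, ← k1]
    rw [← mul_assoc, ← mul_assoc, aa, one_mul, inv2 aa, mul_assoc, aa, mul_one]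
  · simp [mul_mem, m, o, h.q.π_mul, e, t, n1, n2, n3]

end Cd

theorem Good.exW (h : Good v a) (r : Rt v x) (i : Iv a x) : ∃ W : Z4 → G, (∀ e e', W (e + e') = W e * W e') ∧
    (∀ e, W e = 1 → e = 0) ∧ (∀ e, W e ∈ OO x ∧ Commute a (W e)) ∧ (∀ g ∈ OO x, Commute a g → Iv v g ∧ ∃ e, g = W e) ∧
    (∀ k, Rt a (W (Pi.single k 1))) ∧ ∀ k l, Sb a (W (Pi.single k 1)) (W (Pi.single l 1)) → k = l := by
  obtain ⟨D, wb⟩ := h.w
  obtain ⟨c, f⟩ := D.sl h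
  obtain ⟨k, d, n, e⟩ := D.rt r
  obtain ⟨a₁, b₁, a₂, b₂, κ, rl, m⟩ := D.rl h.cm h.aa f k
  have nz : ∀ {g}, Commute x g → g ∈ 𝐍(zpowers x) := fun c => mem_normalizer_fintype fun _ o => mq o (cj_eq (zp_cm c.symm o)).symm
  have m' := fun g p => D.rt_cm r e (m g p).1 (m g p).2
  simp only [List.forall_mem_cons] at m'
  have := big' (OO_odd x) (X := zpowers x) (fun l => by
      obtain ⟨g, p, q⟩ := wb x r
      have s := l (D.oo_z r p)
      refine q (cm_of (mul_inv_eq_one.1 (Iv.one (a := v) ?_ (zp_cm r.cm s) (zp_cube r.x3 s))))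
      simp only [Iv, ← mul_assoc, h.vv, one_mul, mul_inv_rev, inv_inv, inv2 h.vv]) (fun _ o => nz (OO_cm o)) (fun _ => D.oo_i r) rl (nz r.cm.symm)
    (by
      simp only [List.forall_mem_cons]
      exact ⟨⟨nz m'.1, OO_n m'.1⟩, ⟨nz m'.2.1, OO_n m'.2.1⟩, ⟨nz m'.2.2.1, OO_n m'.2.2.1⟩, ⟨nz m'.2.2.2.1, OO_n m'.2.2.2.1⟩,
        ⟨mem_normalizer_fintype fun _ o => mq (inv_mem o) (i.zp o).symm, OO_i i⟩, ⟨nz m'.2.2.2.2.1, OO_n m'.2.2.2.2.1⟩, by simp⟩)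
    fun g o s => ⟨_, mul_mem o (OO_zp r.x3 (mul_mem s s)), cm_of (by
      have c := zp_cm (OO_cm o).symm s
      have t := sq3 (zp_cube r.x3 s)
      rw [← conj_mul, i.zp (mul_mem s s), t, inv_inv, ← t, ← mul_assoc g, c.eq, inv_mul_cancel_right]), by simpa using mul_mem s s⟩
  obtain ⟨D', -⟩ := h.symm.w
  obtain ⟨c', f'⟩ := D'.sl h.symm
  have iv : ∀ g ∈ OO x, Commute a g → Iv v g := fun g o p => eq_inv_of_mul_eq_one_left ((i.zp (D.oo_i r o)).one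
    (((h.cm.symm.mul_right p).mul_right h.cm.symm.inv_right).mul_right p) (zp_cube r.x3 (D.oo_i r o)))
  have r1 : ∀ g ∈ OO x, Commute a g → (D'.ρ g).right = 1 := fun g o p => by
    obtain ⟨s, q, rfl⟩ := odd_sq (OO_odd x) o
    have p' := zp_cm p q
    have := congrArg (fun g => (D'.ρ g).right) (iv s (zpowers_le.2 o q) p')
    rw [D'.ρ_cj h.cm.symm p', D'.ρ_inv p', f'] at this
    rw [D'.ρ_mul p' p', SemidirectProduct.mul_right, mul_eq_one_iff_eq_inv]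
    simpa [srot] using this
  have ro : ∀ g : ↥(OO x ⊓ 𝐂[a]), ∃ e, D'.ρ g = rot e := fun ⟨g, o, p⟩ =>
    odd_rot (r1 g o (cmc.2 p)) (OO_odd x) (D'.ρ_p (cmc.2 p) (congrArg Subtype.val (pow_card_eq_one' (x := (⟨g, o⟩ : OO x))) :))
  choose φ hφ using ro
  have ad : ∀ g g', φ (g * g') = φ g + φ g' := fun g g' => rot_inj (by
    rw [rot_add, ← hφ, ← hφ, ← hφ]; exact D'.ρ_mul (cmc.2 g.2.2) (cmc.2 g'.2.2))
  have inj : φ.Injective := fun g g' e => Subtype.ext (mul_inv_eq_one.1 (odd_two (OO_odd x) (mul_mem g.2.1 (inv_mem g'.2.1)) (n := 2)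
    (D'.q.four (D'.ρ_eq (cmc.2 g.2.2) (cmc.2 g'.2.2) (by rw [hφ, hφ, e])))))
  let ψ := Equiv.ofBijective φ ((Nat.bijective_iff_injective_and_card φ).2 ⟨inj, le_antisymm (Nat.card_le_card_of_injective φ inj)
    (by simpa using this)⟩)
  have k1 : ∀ e, φ (ψ.symm e) = e := ψ.apply_symm_apply
  have k2 : ∀ e, D'.ρ (ψ.symm e : G) = rot e := fun e => by rw [hφ, k1]
  have k3 : ∀ k, Rt a (ψ.symm (Pi.single k 1) : G) := fun k => D'.rt_of (odd_two (OO_odd x) (pow_mem (ψ.symm _).2.1 3) (n := 2)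
    (D'.q.four (D'.ker ((cmc.2 (ψ.symm _).2.2).pow_right 3) (by rw [D'.ρ_pow (cmc.2 (ψ.symm _).2.2), k2, rot_cube]))))
    (cmc.2 (ψ.symm _).2.2) (by decide) (k2 _)
  exact ⟨fun e => ψ.symm e, fun e e' => congrArg Subtype.val (inj (show φ _ = φ (_ * _) by rw [ad, k1, k1, k1])),
    fun e p => rot_inj ((k2 e).symm.trans ((congrArg D'.ρ p).trans D'.ρ_one)), fun e => ⟨(ψ.symm e).2.1, cmc.2 (ψ.symm e).2.2⟩,
    fun g o p => ⟨iv g o p, ψ ⟨g, o, cmc.1 p⟩, congrArg Subtype.val (ψ.symm_apply_apply ⟨g, o, cmc.1 p⟩).symm⟩, k3,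
    fun k l => (D'.sb (k3 k) (k3 l) (by decide) (by decide) (k2 _) (k2 _)).1⟩

namespace Good

variable (h : Good v a)
include h

theorem ex4 {f : Fin 4 → G} (r : ∀ k, Rt v (f k)) (n : ∀ k l, Sb v (f k) (f l) → k = l) (r' : Rt v x) : ∃ k, Sb v (f k) x := by
  obtain ⟨bl, e, -⟩ := h.blk
  obtain ⟨k, p⟩ := Finite.injective_iff_surjective.1 (fun k l p => n k l ((e (r k) (r l)).2 p) : (bl ∘ f).Injective) (bl x)
  exact ⟨k, (e (r k) r').2 p⟩

theorem pr (r : Rt v x) (i : Iv a x) : ∃ x', Pr v a x x' := let ⟨_, o, i'⟩ := h.op r i; ⟨_, o, i, i'⟩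

theorem r3 (o : Pr v a x x') (r : Rt v w) (i : Iv a w) (s : Sb v x w) : w ∈ zpowers x ∨ w ∈ zpowers x' := h.r2 o.1 o.i o.i' r i s

theorem nsb (o : Pr v a x x') (o' : Pr v a y y') (n : ¬ Sb v x y) :
    ¬ Sb v x' y ∧ ¬ Sb v y x ∧ Commute x y ∧ Commute x y' ∧ Commute x' y ∧ Commute x' y' := by
  obtain ⟨bl, e, -⟩ := h.blk
  have e1 := (e o.r o.r').1 (.inl o.m)
  have e2 := (e o'.r o'.r').1 (.inl o'.m)
  have n' := (e o.r o'.r).not.1 n
  exact ⟨(e o.r' o'.r).not.2 (e1 ▸ n'), (e o'.r o.r).not.2 (Ne.symm n'), h.cm_nsb o.r o'.r n,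
    h.cm_nsb o.r o'.r' ((e o.r o'.r').not.2 (e2 ▸ n')), h.cm_nsb o.r' o'.r ((e o.r' o'.r).not.2 (e1 ▸ n')),
    h.cm_nsb o.r' o'.r' ((e o.r' o'.r').not.2 (e1 ▸ e2 ▸ n'))⟩

theorem oo (r : Rt v x) (i : Iv a x) (o : Pr a v w w') : w ∈ OO x ∨ w' ∈ OO x := by
  obtain ⟨W, -, -, m, m', r', n⟩ := h.exW r i
  obtain ⟨bl, e, -⟩ := h.symm.blk
  obtain ⟨k, s⟩ := h.symm.ex4 r' n o.r
  have key : ∀ {w}, w ^ 3 = 1 → W (Pi.single k 1) ∈ zpowers w → w ∈ OO x := fun e p => by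
    rcases zp3 e p with p | p | p
    exacts [absurd p (r' k).ne, p ▸ (m _).1, inv_mem_iff.1 (p ▸ (m _).1)]
  exact (h.symm.r3 o (r' k) (m' _ (m _).1 (m _).2).1 ((e o.r (r' k)).2 ((e (r' k) o.r).1 s).symm)).imp (key o.r.x3) (key o.r'.x3)

theorem l1 (r : Rt v x) (i : Iv a x) (o : Pr a v w w') : Commute x w ∨ Commute x w' := (h.oo r i o).imp OO_cm OO_cm

theorem mo (r : Rt v x) (i : Iv a x) (r' : Rt a w) (i' : Iv v w) (c : Commute w x) : w ∈ OO x :=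
  let ⟨_, o⟩ := h.symm.pr r' i'; (h.oo r i o).resolve_right fun m => r.ne (o.ncm i r.x3 c.symm (OO_cm m))

theorem sbz (r : Rt v x) (i : Iv a x) (o : Pr a v w w') (r' : Rt a u) (i' : Iv v u) (c : Commute w x) (c' : Commute u x)
    (s : Sb a w u) : u ∈ zpowers w :=
  (h.symm.r3 o r' i' s).resolve_right fun m => r.ne (o.ncm i r.x3 c.symm (zp_cm' o.r'.x3 m r'.ne c').symm)

theorem ns (r : Rt v x) (i : Iv a x) (o : Pr v a y y') (o' : Pr a v w w') (r' : Rt a u) (i' : Iv v u) (c : Commute w x)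
    (c' : Commute u x) (d : Commute w y) (d' : Commute u y') : ¬ Sb a w u := fun s =>
  o'.r.ne (o.ncm o'.i o'.r.x3 d (zp_cm' o'.r.x3 (h.sbz r i o' r' i' c c' s) r'.ne d'))

theorem flip (T : Tr v a X X') (o : Pr a v w w') (c : ∀ i, Commute w (X i)) : ∃ f : Fin 3 → G,
    (∀ M : Subgroup G, (∀ i, X i ∈ M ∧ X' i ∈ M) → ∀ i, f i ∈ M) ∧ Tr a v (fun i => f i * w * (f i)⁻¹) (fun i => f i * w' * (f i)⁻¹) ∧
    ∀ {u u'}, Pr a v u u' → (∀ i, Commute u (X i)) → ∀ i, ¬ Sb a u (f i * w * (f i)⁻¹) := by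
  have cm := fun i j n => (h.nsb (T.pr i) (T.pr j) (T.ns i j n)).2.2
  let κ := fun i => kp (X i) (X' i)
  have c1 : ∀ i j, i ≠ j → Commute (κ i) (X j) ∧ Commute (κ i) (X' j) := fun i j n =>
    ⟨(kp_cm (cm i j n).1.symm (cm i j n).2.2.1.symm).symm, (kp_cm (cm i j n).2.1.symm (cm i j n).2.2.2.symm).symm⟩
  have c2 : ∀ i, Commute v (κ i) := fun i => Qz_cm (T.pr i).kQ
  have n : ∀ i : Fin 3, i + 1 ≠ i ∧ i + 2 ≠ i ∧ i + 1 ≠ i + 2 := by decide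
  let f := fun i => κ (i + 1) * κ (i + 2)
  have pr : ∀ i, Pr a v (f i * w * (f i)⁻¹) (f i * w' * (f i)⁻¹) := fun i => o.cj (by
    rw [← cjj, (T.pr _).ka h.vv h.cm, ← conj_mul, (T.pr _).ka h.vv h.cm, cj_eq (c2 _).symm, mul_assoc, h.vv, mul_one])
    (cj_eq ((c2 _).mul_right (c2 _)).symm)
  have d1 : ∀ i, Commute (f i * w * (f i)⁻¹) (X i) := fun i =>
    cj_eq ((c1 _ _ (n i).1).1.mul_left (c1 _ _ (n i).2.1).1) ▸ cj_cm (f i) (c i)
  have d2 : ∀ i j, j ≠ i → Commute (f i * w * (f i)⁻¹) (X' j) := fun i j p => Commute.inv_right_iff.1 (by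
    rcases (by decide : ∀ i j : Fin 3, j ≠ i → j = i + 1 ∨ j = i + 2) i j p with rfl | rfl
    · exact (by rw [← cjj, cj_eq (c1 _ _ (n i).2.2.symm).1, (T.pr _).kx h.vv] : f i * _ * (f i)⁻¹ = _) ▸ cj_cm (f i) (c (i + 1))
    · exact (by rw [← cjj, (T.pr _).kx h.vv, cj_eq (c1 _ _ (n i).2.2).2.inv_right] : f i * _ * (f i)⁻¹ = _) ▸
        cj_cm (f i) (c (i + 2)))
  refine ⟨f, fun M m i => mul_mem (kp_mem (m _).1 (m _).2) (kp_mem (m _).1 (m _).2), ⟨pr, fun i j p => ?_⟩, fun o' c' i =>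
    h.ns (T.pr i).r (T.pr i).i (T.pr (i + 1)) o' (pr i).r (pr i).i (c' i) (d1 i) (c' _) (d2 _ _ (n i).1)⟩
  obtain ⟨k, p1, p2⟩ := (by decide : ∀ i j : Fin 3, ∃ k, k ≠ i ∧ k ≠ j) i j
  exact h.ns (T.pr k).r' (T.pr k).i' (T.pr i) (pr i) (pr j).r (pr j).i (d2 _ _ p1) (d2 _ _ p2) (d1 i) (d2 _ _ p)

theorem pig (T : Tr v a X X') (o : Pr v a x x') (n : ∀ i, ¬ Sb v x (X i)) (r : Rt v u) : Sb v x u ∨ ∃ i, Sb v (X i) u := by
  obtain ⟨k, s⟩ := h.ex4 (f := Fin.cons x X) (Fin.cases o.r fun i => (T.pr i).r) (Fin.cases (Fin.cases (fun _ => rfl)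
    fun i p => absurd p (n i)) fun i => Fin.cases (fun p => absurd p (h.nsb o (T.pr i) (n i)).2.1)
      fun j p => congrArg _ (by_contra fun q => T.ns i j q p)) r
  exact Fin.cases .inl (fun i s => .inr ⟨i, s⟩) k s

theorem uu (T : Tr v a X X') (r : Rt a w) (i : Iv v w) (c : ∀ i, Commute w (X i)) (r' : Rt a u) (i' : Iv v u)
    (c' : ∀ i, Commute u (X i)) : u ∈ zpowers w := by
  obtain ⟨w', o⟩ := h.symm.pr r i
  obtain ⟨u', o'⟩ := h.symm.pr r' i'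
  obtain ⟨f, -, T', n⟩ := h.flip T o c
  exact h.sbz (T.pr 0).r (T.pr 0).i o r' i' (c 0) (c' 0) ((h.symm.pig T' o (n o c) r').resolve_right fun ⟨j, s⟩ =>
    (h.symm.nsb o' (T'.pr j) (n o' c' j)).2.1 s)

theorem cl (T : Tr v a X X') (o : Pr v a x x') (n : ∀ i, ¬ Sb v x (X i)) (m : ∀ i, X i ∈ M ∧ X' i ∈ M) (m1 : x ∈ M) (m2 : x' ∈ M)
    (r : Rt v u) (i : Iv a u) : u ∈ M := by
  rcases h.pig T o n r with s | ⟨j, s⟩
  exacts [(h.r3 o r i s).elim (zpowers_le.2 m1 ·) (zpowers_le.2 m2 ·),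
    (h.r3 (T.pr j) r i s).elim (zpowers_le.2 (m j).1 ·) (zpowers_le.2 (m j).2 ·)]

theorem uo (T : Tr v a X X') (r : Rt a w) (i : Iv v w) (c : ∀ i, Commute w (X i)) (m : ∀ i, g ∈ OO (X i)) (ca : Commute a g) :
    g ∈ zpowers w := by
  obtain ⟨W, ad, inj, m1, m2, r', -⟩ := h.exW (T.pr 0).r (T.pr 0).i
  have iv := fun e => (m2 _ (m1 e).1 (m1 e).2).1
  obtain ⟨-, e, rfl⟩ := m2 g (m 0) ca
  have w0 : W 0 = 1 := by simpa using ad 0 0
  have key : ∀ (M : Subgroup G) (e : Z4), (∀ k, e k ≠ 0 → W (Pi.single k 1) ∈ M) → W e ∈ M := fun M e p => by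
    have : ∀ k, W (Pi.single k (e k)) ∈ M := fun k => by
      rcases z3 (e k) with q | q | q <;> rw [q]
      · rw [Pi.single_zero, w0]; exact one_mem _
      · exact p k (by rw [q]; decide)
      · rw [← one_add_one_eq_two, Pi.single_add, ad]; exact mul_mem (p k (by rw [q]; decide)) (p k (by rw [q]; decide))
    rw [csum e, ad, ad, ad]
    exact mul_mem (mul_mem (mul_mem (this 0) (this 1)) (this 2)) (this 3)
  refine key _ e fun k n => h.uu T r i c (r' k) (iv _) fun j => by_contra fun p => n ?_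
  classical
  let e' : Z4 := fun l => if Commute (W (Pi.single l 1)) (X j) then 0 else e l
  have k1 := key 𝐂[X j] (e - e') fun l q => cmc.1 (by_contra fun s => q (by simp [e', mt Commute.symm s]))
  have k2 := key 𝐂[X' j] e' fun l q => cmc.1 ((h.symm.l1 (r' l) (iv _) (T.pr j)).resolve_left fun s => q (by simp [e', s])).symm
  have k3 : W e' ∈ 𝐂[X j] := (mul_mem_cancel_left k1).1 (by rw [← ad, sub_add_cancel]; exact cmc.1 (OO_cm (m j)))
  simpa [e', p] using congrFun (inj _ ((T.pr j).ncm (iv e') (by rw [pow_three', ← ad, ← ad, c3, w0]) (cmc.2 k3).symm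
    (cmc.2 k2).symm)) k

theorem cmo (T : Tr v a X X') (m : ∀ i, g ∈ OO (X i)) (m' : ∀ i, p ∈ OO (X i)) : Commute g p := by
  obtain ⟨D, -⟩ := h.w
  refine cm_of (mul_inv_eq_one.1 (by_contra fun n => T.ns 0 1 (by decide) ?_))
  rcases zp3 (T.pr 0).r.x3 (D.oo_comm (T.pr 0).r (m 0) (m' 0)) with e | e | e <;>
    rcases zp3 (T.pr 1).r.x3 (D.oo_comm (T.pr 1).r (m 1) (m' 1)) with e' | e' | e' <;> try exact absurd ‹_› n
  · exact .inr (by rw [← e, ← e', mul_inv_cancel]; exact one_mem _)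
  · exact .inl (by rw [← e, e', inv_mul_cancel]; exact one_mem _)
  · exact .inl (by rw [← e', e, mul_inv_cancel]; exact one_mem _)
  · exact .inr (by rw [← e', e, mul_inv_cancel]; exact one_mem _)

theorem n1 (T : Tr v a X X') (o : Pr v a s s') (n : ∀ i, ¬ Sb v s (X i)) (r : Rt a w) (i : Iv v w) (c : ∀ i, Commute w (X i))
    (c' : Commute w s') : ∃ t, Tri s w t ∧ Rt (a * v) t ∧ Iv v t ∧ ∀ i, Commute t (X i) := by
  have cm := fun j => (h.nsb o (T.pr j) (n j)).2.2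
  have mw := fun j => h.mo (T.pr j).r (T.pr j).i r i (c j)
  obtain ⟨g, e⟩ : ∃ g, s * w * s⁻¹ = g := ⟨_, rfl⟩
  obtain ⟨g', e'⟩ : ∃ g', a * g * a⁻¹ = g' := ⟨_, rfl⟩
  have mg : ∀ j, g ∈ OO (X j) := fun j => e ▸ nm (OO_n (cm j).1.symm) (mw j)
  have mg' : ∀ j, g' ∈ OO (X j) := fun j => e' ▸ nm (OO_i (T.pr j).i) (mg j)
  have ig : Iv v g := e ▸ i.cj (cj_eq o.r.cm.symm)
  have ig' : Iv v g' := e' ▸ ig.cj (cj_eq h.cm.symm)
  have cg := h.cmo T mg mg'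
  have ea : a * g' * a⁻¹ = g := by rw [← e', cjj, h.aa]; group
  have ka := o.ka h.vv h.cm
  have r0 := r.cj ka
  have i0 := i.cj (cj_eq (Qz_cm o.kQ).symm)
  have c0 : ∀ j, Commute (kp s s' * w * (kp s s')⁻¹) (X j) := fun j =>
    cj_eq (kp_cm (cm j).1.symm (cm j).2.2.1.symm).symm ▸ cj_cm _ (c j)
  have p1 := h.uo T r i c (fun j => inv_mem (mul_mem (mg j) (mg' j))) (cm_of (by rw [← conj_mul, e', ea, cg.eq])).inv_right
  have m2 : ∀ j, g' * g⁻¹ ∈ OO (X j) := fun j => mul_mem (mg' j) (inv_mem (mg j))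
  have p2 := h.mul.uo T.mul r0 i0 c0 m2 (cm_of (by
    rw [← cjj, ← conj_mul (b := v), ig', ig.inv, inv_inv, ← conj_mul, ← conj_inv, ea, e', cg.inv_left.eq]))
  have e2 : g = g' * g⁻¹ * (g * g')⁻¹ := by
    rw [← cg.inv_left.eq, mul_inv_rev, mul_assoc, mul_inv_cancel_left, sq3 (by rw [inv_pow, ← e, cj_pow s r.x3, inv_one]), inv_inv]
  have cs : Commute (g' * g⁻¹) s := (zp_cm (Commute.inv_left_iff.1 (o.kx' h.vv ▸ cj_cm (kp s s') c'.symm)) p2).symm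
  have cw := h.cmo T m2 mw
  have ns : ¬ Commute s w := fun p => r.ne (o.ncm i r.x3 p.symm c')
  generalize g' * g⁻¹ = t at p2 e2 cs cw
  generalize (g * g')⁻¹ = p at p1 e2
  rw [← e] at e2
  rcases zp3 r.x3 p1 with rfl | rfl | rfl
  · refine absurd ?_ ns
    have := cj_cm s⁻¹ cs.symm
    rw [mul_one] at e2
    simpa [← e2, mul_assoc] using this
  · refine ⟨t, ⟨e2, cs, cw, zp_cube r0.x3 p2⟩, ?_, i0.zp p2, fun j => (zp_cm (c0 j).symm p2).symm⟩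
    rcases zp3 r0.x3 p2 with rfl | rfl | rfl
    exacts [absurd (cm_of (e2.trans (one_mul _))) ns, r0, h.mul.symm.rinv r0]
  · refine absurd (Commute.inv_left_iff.1 (sq3 o.r.x3 ▸ cm_of ?_)) ns
    rw [← cjj, e2, ← conj_mul, ← conj_inv, e2, cj_eq cs.symm]
    cg [cw.eq]

theorem exT (o : Rt v s) (r : Rt a w) (i : Iv v w) : ∃ X X', Tr v a X X' ∧ (∀ i, ¬ Sb v s (X i)) ∧ ∀ i, Commute w (X i) := by
  obtain ⟨bl, e, ex⟩ := h.blk
  have : ∀ k, ∃ x x', Pr v a x x' ∧ bl x = k ∧ Commute w x := fun k => by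
    obtain ⟨x, r', i', b⟩ := ex k
    obtain ⟨x', o⟩ := h.pr r' i'
    exact (h.symm.l1 r i o).elim (fun p => ⟨x, x', o, b, p⟩) fun p => ⟨x', x, o.symm, ((e o.r o.r').1 (.inl o.m)).symm.trans b, p⟩
  choose x x' p b c using this
  exact ⟨fun i => x ((bl s).succAbove i), fun i => x' ((bl s).succAbove i), ⟨fun _ => p _, fun i j n => (e (p _).r (p _).r).not.2
    (by rw [b, b]; exact Fin.succAbove_right_injective.ne n)⟩, fun i => (e o (p _).r).not.2 (by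
      rw [b]; exact Fin.ne_succAbove _ _), fun _ => c _⟩

theorem n2 (o : Pr v a s s') (r : Rt a w) (i : Iv v w) (c' : Commute w s') : ∃ t, Tri s w t ∧ Tri s' t w := by
  obtain ⟨X, X', T, n, c⟩ := h.exT o.r r i
  obtain ⟨t, p, r1, i1, c1⟩ := h.n1 T o n r i c c'
  obtain ⟨u, q, r2, i2, c2⟩ := h.mul.n1 T.mul o.symm.mul (fun j => (h.nsb o (T.pr j) (n j)).1) r1 i1 c1 p.c1
  rw [mul_assoc, h.vv, mul_one] at r2
  rcases zp3 r.x3 (h.uu T r i c r2 i2 c2) with rfl | rfl | rfl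
  exacts [absurd rfl r2.ne, ⟨t, p, q⟩, absurd (conj_eq_one_iff.1 (p.e.trans (mul_eq_one_iff_eq_inv.2 (calc
    t = s * s' * (s * s' * w * (s * s')⁻¹) * (s * s')⁻¹ := by
      rw [← cjj s s' w, cj_eq c'.symm, p.e, ← conj_mul, ← cjj s s' w, cj_eq c'.symm, p.e, ← cjj, q.e, ← conj_mul, ← conj_inv, p.e,
        cj_eq p.c1.symm]
      cg [p.c2.eq]
    _ = _ := by rw [cjj, o.sq, i])))) r.ne]

end Good

end Cfsg.Lib.O84
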