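import Cfsg.Agent.Lib.W4.O3c

/-! Port of `Lib.O83.I` (helper24): identification of `PΩ₈⁺(3)` (helper18, S1763). -/

set_option autoImplicit false

namespace Cfsg.Lib.O84

open Subgroup Cfsg.Lib.BG Cfsg.Lib.Transfer Cfsg.Lib.ES DihedralGroup Cfsg.Lib.Chev
open Cfsg.Lib.O83 hiding Cd0 Cd WB Good tr_P Tor
open scoped Cfsg.Lib.Transfer

variable {G : Type*} [Group G] {M : Subgroup G} {a a' b g p q s s' t u v v' w w' x x' y y' z : G} {X X' : Fin 3 → G}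

variable [Finite G]

namespace Good

variable (h : Good v a)
include h

theorem a2 (o : Pr v a x x') (o' : Pr a v w w') (c : Commute w x') (m1 : x ∈ M) (m2 : x' ∈ M) (m3 : w ∈ M) (m4 : w' ∈ M) :
    A2Pair (pw (⟨x, m1⟩ : M)) (pw ⟨x', m2⟩) (pw ⟨w, m3⟩) (pw ⟨w', m4⟩) := by
  have c' := (h.l1 o.r o.i o').resolve_left fun p => o'.r.ne (o.ncm o'.i o'.r.x3 p.symm c)
  obtain ⟨t, t1, t2⟩ := h.n2 o o'.r o'.i c
  obtain ⟨s, t6, t5⟩ := h.symm.n2 o'.symm o.r' o.i' c.symm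
  obtain ⟨s', t7, t8⟩ := h.n2 o.symm o'.r' o'.i' c'.symm
  obtain ⟨t', t9, t0⟩ := h.symm.n2 o' o.r o.i c'
  obtain rfl := t7.uq t6.sw
  obtain rfl := t9.uq t1.sw
  have t3 := t0.inv.sw
  have t4 := t8.inv.sw
  simp only [inv_inv] at t3 t4
  have m5 := t1.mem m1 m3
  have m6 := t6.mem m4 m2
  exact a2p (t1.sub m1 m3 m5) (t2.sub m2 m5 m3) (t3.sub m5 m4 m1) (t4.sub m6 m1 m4) (t5.sub m3 m6 m2) (t6.sub m4 m2 m6)

theorem gen (T : Tr v a X X') (o : Pr a v w w') (c : ∀ i, Commute w (X i)) (m : ∀ i, X i ∈ M ∧ X' i ∈ M) (m1 : w ∈ M)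
    (m2 : w' ∈ M) : Qz v ≤ M ∧ (∀ x, Rt v x → x ∈ M) ∧ ∀ a', Good v a' → ∀ x, Rt a' x → Iv v x → x ∈ M := by
  have key : ∀ {v a w w' : G} {X X'}, Good v a → Tr v a X X' → Pr a v w w' → (∀ i, Commute w (X i)) → (∀ i, X i ∈ M ∧ X' i ∈ M) →
      w ∈ M → w' ∈ M → ∀ u, Rt a u → Iv v u → u ∈ M := fun h T o c m m1 m2 u r i =>
    let ⟨_, p, T', n⟩ := h.flip T o c
    h.symm.cl T' o (n o c) (fun i => ⟨mul_mem (mul_mem (p M m i) m1) (inv_mem (p M m i)),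
      mul_mem (mul_mem (p M m i) m2) (inv_mem (p M m i))⟩) m1 m2 r i
  have k1 := key h T o c m m1 m2
  obtain ⟨Y, Y', T', -, c'⟩ := h.symm.exT o.r (T.pr 0).r (T.pr 0).i
  have k2 := key h.symm T' (T.pr 0) c' (fun i => ⟨k1 _ (T'.pr i).r (T'.pr i).i, k1 _ (T'.pr i).r' (T'.pr i).i'⟩) (m 0).1 (m 0).2
  obtain ⟨D, -⟩ := h.w
  obtain ⟨d, f⟩ := D.sl h
  have k3 : ∀ k u, ∃ q ∈ Qz v, q ∈ M ∧ D.π q = Pi.single k u := fun k u => by
    obtain ⟨x, r, i, e⟩ := D.exiv h.cm h.aa f k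
    obtain ⟨x', o⟩ := h.pr r i
    have mx := k2 x r i
    have mk := kp_mem mx (k2 x' o.r' o.i')
    obtain ⟨p1, p2⟩ := D.mv r.cm o.kQ
    have p3 := mul_mem (mul_mem (mul_mem mk mx) (inv_mem mk)) (inv_mem mx)
    rw [e, rot_mv] at p2
    have p4 : D.π _ ≠ 0 := fun p => D.q.z1 (o.sq.symm.trans (inv_injective (by
      rw [mul_inv_rev, mul_inv_rev, ← o.kx h.vv, inv_one, D.q.sq0 p1, p, qf_zero])))
    generalize kp x x' * x * (kp x x')⁻¹ * x⁻¹ = q at p1 p2 p3 p4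
    generalize D.π (kp x x') k + O83.a2 (.r 1) (D.π (kp x x') k) = s at p2
    have p5 := D.act r.cm p1
    have p6 := D.act r.cm (D.nQ r.cm p1)
    rw [p5] at p6
    rw [e, p2, rot_sg, Pi.single_eq_same] at p5 p6
    rw [rot_sg, Pi.single_eq_same] at p6
    have p7 := mul_mem (mul_mem mx p3) (inv_mem mx)
    rcases (by decide : ∀ s u : V2, s ≠ 0 → u = 0 ∨ u = s ∨ u = O83.a2 (.r 1) s ∨ u = O83.a2 (.r 1) (O83.a2 (.r 1) s)) s u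
      (fun p => p4 (by rw [p2, p, Pi.single_zero])) with rfl | rfl | rfl | rfl
    exacts [⟨1, one_mem _, one_mem _, D.q.π_one.trans (Pi.single_zero _).symm⟩, ⟨q, p1, p3, p2⟩, ⟨_, D.nQ r.cm p1, p7, p5⟩,
      ⟨_, D.nQ r.cm (D.nQ r.cm p1), mul_mem (mul_mem mx p7) (inv_mem mx), p6⟩]
  have mv : v ∈ M := (T.pr 0).sq ▸ mul_mem (mul_mem (m 0).1 (m 0).2) (mul_mem (m 0).1 (m 0).2)
  have k4 : Qz v ≤ M := fun q p => by
    choose s s1 s2 s3 using fun k => k3 k (D.π q k)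
    rcases D.q.π_eq (mul_mem (mul_mem (mul_mem (s1 0) (s1 1)) (s1 2)) (s1 3)) p (by
      rw [D.q.π_mul (mul_mem (mul_mem (s1 0) (s1 1)) (s1 2)) (s1 3), D.q.π_mul (mul_mem (s1 0) (s1 1)) (s1 2),
        D.q.π_mul (s1 0) (s1 1), s3, s3, s3, s3, ← vsum]) with e | e <;> rw [e]
    exacts [mul_mem (mul_mem (mul_mem (s2 0) (s2 1)) (s2 2)) (s2 3), mul_mem (mul_mem (mul_mem (mul_mem (s2 0) (s2 1)) (s2 2)) (s2 3)) mv]
  have k5 : ∀ x, Rt v x → x ∈ M := fun x r => by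
    obtain ⟨bl, e, ex⟩ := h.blk
    obtain ⟨y, r', i, b⟩ := ex (bl x)
    rcases (e r r').2 b.symm with s | s
    exacts [(mul_mem_cancel_right (k2 y r' i)).1 (k4 s), (mul_mem_cancel_right (inv_mem (k2 y r' i))).1 (k4 s)]
  have k6 : ∀ e, ∃ p ∈ M, Commute v p ∧ D.ρ p = rot e := fun e => by
    have : ∀ k, ∃ p ∈ M, Commute v p ∧ D.ρ p = rot (Pi.single k (e k)) := fun k =>
      let ⟨x, o, s⟩ := D.exrt k
      ⟨x ^ (e k).val, pow_mem (k5 x o) _, o.cm.pow_right _, by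
        rw [D.ρ_pow o.cm, s]; exact (by decide +kernel : ∀ k, ∀ d : ZMod 3, rot (Pi.single k 1) ^ d.val = rot (Pi.single k d)) _ _⟩
    choose p p1 p2 p3 using this
    refine ⟨p 0 * p 1 * p 2 * p 3, mul_mem (mul_mem (mul_mem (p1 0) (p1 1)) (p1 2)) (p1 3),
      (((p2 0).mul_right (p2 1)).mul_right (p2 2)).mul_right (p2 3), ?_⟩
    rw [D.ρ_mul (((p2 0).mul_right (p2 1)).mul_right (p2 2)) (p2 3), D.ρ_mul ((p2 0).mul_right (p2 1)) (p2 2), D.ρ_mul (p2 0) (p2 1),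
      p3, p3, p3, p3, ← rot_add, ← rot_add, ← rot_add, ← csum]
  let S := fun a : G => ∀ x, O83.Rt a x → Iv v x → x ∈ M
  have s1 : ∀ {a a' g}, g ∈ M → Commute v g → g * a * g⁻¹ = a' → S a' → S a := fun p c e s x r i =>
    (mul_mem_cancel_left p).1 ((mul_mem_cancel_right (inv_mem p)).1 (s _ (r.cj e) (i.cj (cj_eq c.symm))))
  have s2 : ∀ {a}, Good v a → ∃ g ∈ M, Commute v g ∧ D.ρ (g * a * g⁻¹) = tt true 0 := fun {a} h => by
    obtain ⟨d, f⟩ := D.sl h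
    obtain ⟨p, p1, p2, p3⟩ := k6 (-d)
    exact ⟨p, p1, p2, by rw [D.ρ_cj p2 h.cm, p3, f, ← rot_neg, rot_srot, srot_rot, neg_neg, sub_neg_eq_add, c3, tt_s]⟩
  refine ⟨k4, k5, fun a' h' => ?_⟩
  obtain ⟨p, p1, p2, p3⟩ := s2 h
  obtain ⟨p', q1, q2, q3⟩ := s2 h'
  have s3 : S (p * a * p⁻¹) := s1 (inv_mem p1) p2.inv_right (by group) k1
  refine s1 q1 q2 rfl ?_
  obtain ⟨q, mq, e | e⟩ := D.tw (h'.cj q2).cm (h.cj p2).cm (h'.cj q2).aa (h.cj p2).aa (p3.trans q3.symm) (q3 ▸ tt_free _ _ (by decide))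
  · exact s1 (k4 mq) (Qz_cm mq) e s3
  · have o := (T.pr 0).cj (cj_eq p2.symm) rfl
    exact s1 (k4 mq) (Qz_cm mq) e (s1 (inv_mem (k4 o.kQ)) (Qz_cm o.kQ).inv_right (by rw [← o.ka h.vv (h.cj p2).cm]; group) s3)

end Good

theorem WB.ex (h : WB z) : ∃ a q, Good z a ∧ Commute a q ∧ q * z * q⁻¹ ∈ Qz z ∧ q * z * q⁻¹ ≠ z := by
  obtain ⟨D, -⟩ := id h
  let D' := D.tr D.nz
  have zy := D.sym D.yz D.yQ
  have πz : D'.π z = fv 0 := (congrArg D'.π D.ny.symm).trans D'.πy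
  obtain ⟨v, o, c, e⟩ := D'.T false 2
  obtain ⟨x, mx, ex⟩ := D'.q.sur (Pi.single 0 (om 1) + Pi.single 1 (om 1))
  obtain ⟨w, w1, w2, w3⟩ := D'.cross mx ((D'.q.comm zy mx).2 (by rw [ex, πz]; decide)) (D.ny ▸ o) c
  obtain ⟨k, mk, ek⟩ := D'.q.sur (Pi.single 0 (om 0))
  obtain ⟨q, mq, eq⟩ := D'.q.sur (Pi.single 1 (om 1))
  have ma := mul_mem w1 mk
  have ea := D'.q.π_mul w1 mk
  rw [w3, e, ex, ek] at ea
  have := D'.q.anti mq zy (by rw [eq, πz]; decide)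
  refine ⟨w * k, q, ⟨h, D.yz.trans (D'.full ma (by rw [ea]; decide)), D.yz.trans (D'.full (mul_mem ma zy) (by
    rw [D'.q.π_mul ma zy, ea, πz]; decide)), (D'.q.comm zy ma).2 (by rw [ea, πz]; decide), fun p => fv_ne 0 ?_⟩,
    (D'.q.comm ma mq).2 (by rw [ea, eq]; decide), this ▸ mul_mem D.q.zQ D.yQ, this ▸ D'.q.mz_ne z⟩
  have p := (mul_mem_cancel_left w2).1 p
  rw [← D.πy, ← D'.q.sq1 mk (by rw [ek]; decide), D.q.π_mul p p, vself]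

theorem WB.main (h : WB z) (odd : ¬ 2 ∣ 𝐂[z].index) :
    Nonempty (generalizedFittingSubgroup G ≃* POmega (ZMod 3) (quadFormPlus 4 (ZMod 3))) := by
  obtain ⟨a, q, g, cq, q1, q2⟩ := h.ex
  obtain ⟨D, -⟩ := h
  obtain ⟨_, -, ex⟩ := g.symm.blk
  obtain ⟨w, r, i, -⟩ := ex 0
  obtain ⟨w', o⟩ := g.symm.pr r i
  obtain ⟨_, -, ex⟩ := g.blk
  obtain ⟨s, r', -⟩ := ex 0
  obtain ⟨X, X', T, -, c⟩ := g.exT r' r i
  let L := closure {x | Rt z x ∨ ∃ a, Good z a ∧ Rt a x ∧ Iv z x}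
  have m : ∀ j, X j ∈ L ∧ X' j ∈ L := fun j => ⟨subset_closure (.inl (T.pr j).r), subset_closure (.inl (T.pr j).r')⟩
  have m1 : w ∈ L := subset_closure (.inr ⟨a, g, r, i⟩)
  have m2 : w' ∈ L := subset_closure (.inr ⟨a, g, o.r', o.i'⟩)
  have l := (g.gen T o c m m1 m2).1
  have nc : ¬ Commute z w := fun p => r.ne (i.one p r.x3)
  have : Nontrivial L := ⟨⟨⟨w, m1⟩, 1, fun e => r.ne (congrArg Subtype.val e)⟩⟩
  have A := fun j => g.a2 (T.pr j).symm o (c j) (m j).2 (m j).1 m1 m2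
  have cm : ∀ j k, j ≠ k → ∀ a ∈ [pw (⟨_, (m j).2⟩ : L), pw ⟨_, (m j).1⟩], ∀ b ∈ [pw (⟨_, (m k).2⟩ : L), pw ⟨_, (m k).1⟩],
      ∀ t u, Commute (a t) (b u) := fun j k n => by
    obtain ⟨-, -, c1, c2, c3, c4⟩ := g.nsb (T.pr j) (T.pr k) (T.ns j k n)
    have k : ∀ {x y : L}, Commute (x : G) y → ∀ t u, Commute (pw x t) (pw y u) := fun {x y} c _ _ =>
      (show Commute x y from Subtype.ext c).pow_pow _ _
    simp only [List.forall_mem_cons]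
    exact ⟨⟨k c4, k c3, by simp⟩, ⟨k c2, k c1, by simp⟩, by simp⟩
  obtain ⟨_, na, ⟨e⟩⟩ := ident (G := L) (eq_bot_iff.2 fun x p => by
      have k : ∀ y ∈ L, Commute (x : G) y := fun y o => (congrArg Subtype.val (mem_center_iff.1 p ⟨y, o⟩) :).symm
      exact (D.cenQ fun y o => k y (l o)).elim (fun e => Subtype.ext e) fun e => absurd (e ▸ k w m1) nc)
    (p := ![pw ⟨_, (m 0).2⟩, pw ⟨w, m1⟩, pw ⟨_, (m 1).2⟩, pw ⟨_, (m 2).2⟩])
    (m := ![pw ⟨_, (m 0).1⟩, pw ⟨w', m2⟩, pw ⟨_, (m 1).1⟩, pw ⟨_, (m 2).1⟩])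
    ⟨fun j => by fin_cases j; exacts [(A 0).rk1.1, (A 0).rk1.2, (A 1).rk1.1, (A 2).rk1.1], fun j k p => by
      rw [A_D] at p
      fin_cases j <;> fin_cases k <;> first | exact absurd p (by decide) | exact cm _ _ (by decide), fun j k p => by
      rw [A_D] at p
      fin_cases j <;> fin_cases k <;> first | exact absurd p (by decide) | exact A _ | exact (A _).symm⟩
    fun K p p' x _ => by
      have k : ∀ {x : L}, pw x 1 ∈ K → (x : G) ∈ K.map L.subtype := fun {x} p => ⟨x, mq p (pow_one x), rfl⟩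
      obtain ⟨-, k1, k2⟩ := g.gen T o c (fun j => by
        fin_cases j
        exacts [⟨k (p' 0 1), k (p 0 1)⟩, ⟨k (p' 2 1), k (p 2 1)⟩, ⟨k (p' 3 1), k (p 3 1)⟩]) (k (p 1 1)) (k (p' 1 1))
      obtain ⟨y, s, e⟩ := (closure_le (K.map L.subtype)).2 (fun y s => s.elim (k1 y) fun ⟨a, b, c, d⟩ => k2 a b y c d) x.2
      exact Subtype.ext e ▸ s
  refine D.fin (L := L) (fun k => nc (congrArg Subtype.val (k.1.1 ⟨z, l D.q.zQ⟩ ⟨w, m1⟩))) na l (fun b p => ?_) ?_ odd ▸ ⟨e⟩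
  · have p := cmc.2 p
    refine mem_normalizer_fintype fun x s => ?_
    refine (closure_le (L.comap (MulAut.conj b).toMonoidHom)).2 (fun y s => subset_closure ?_) s
    exact s.imp (·.cj (cj_eq p.symm)) fun ⟨a, h, o, i⟩ => ⟨_, h.cj p, o.cj rfl, i.cj (cj_eq p.symm)⟩
  · obtain ⟨-, -, b, cb, -, e⟩ := D.orb (isc q z) q1 q2
    have p : (kp (X 0) (X' 0))⁻¹ * kp w w' ∈ L ⊔ 𝐂[z] := mem_sup_left (mul_mem (inv_mem (kp_mem (m 0).1 (m 0).2)) (kp_mem m1 m2))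
    have p' : (kp (X 0) (X' 0))⁻¹ * kp w w' * z * ((kp (X 0) (X' 0))⁻¹ * kp w w')⁻¹ = a := by
      rw [← cjj, o.ka g.aa g.cm.symm, g.cm.eq, ← (T.pr 0).ka g.vv g.cm]; group
    generalize (kp (X 0) (X' 0))⁻¹ * kp w w' = n at p p'
    refine ⟨b * q, mul_mem (mem_sup_right (cmc.1 cb)) (mq (mul_mem (mul_mem p (mem_sup_right (cmc.1 (show Commute z (n⁻¹ * q * n) from
      ?_)))) (inv_mem p)) (by group)), by rw [← cjj, e]⟩
    simpa [← p', mul_assoc] using cj_cm n⁻¹ cq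

end Cfsg.Lib.O84
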